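import Groth.Agent.S9380
import Groth.Agent.S4409
import Groth.Agent.Lib.Helper5.Lim.ImmersionIntoLimit
import Groth.Agent.Lib.Helper5.NApprox.LimAff

/-! # A quasi-affine morphism of finite type factors as an immersion into an affine scheme of
finite presentation over the base (helper5) -/

set_option autoImplicit false
universe u
open CategoryTheory Limits AlgebraicGeometry TopologicalSpace Opposite

namespace Groth.Agent.H5.QAff2

open Groth.Agent.H5.NApprox

theorem exists_immersion_affine_fp {X Y : Scheme.{u}} [CompactSpace Y] [QuasiSeparatedSpace Y]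
    (f : X ⟶ Y) (hf : Mor2.IsQuasiAffine f) [LocallyOfFiniteType f] :
    ∃ (X'' : Scheme.{u}) (g : X'' ⟶ Y) (j : X ⟶ X''), IsAffineHom g ∧
      LocallyOfFinitePresentation g ∧ IsImmersion j ∧ j ≫ g = f := by
  haveI : QuasiCompact f := hf.1
  haveI : IsSeparated f := ((Groth.Agent.S4409.result f).mp hf).1
  haveI : QuasiSeparated f := inferInstance
  obtain ⟨c, e, -, hcqc, hcoi⟩ := (Groth.Agent.S9380.result f).mp hf
  let A : RelSpec.QCAlg Y := RelSpec.QCAlg.directImage f
  change X ⟶ A.spec at c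
  change c ≫ A.π = f at e
  haveI : IsAffineHom A.π := inferInstance
  haveI : CompactSpace A.spec := QuasiCompact.compactSpace_of_compactSpace A.π
  haveI : QuasiSeparatedSpace A.spec := quasiSeparatedSpace_of_quasiSeparated A.π
  haveI : CompactSpace X := QuasiCompact.compactSpace_of_compactSpace f
  obtain ⟨I, pI, dI, nI, D, cn, hcn, hprops, haff, ⟨eiso⟩⟩ := relApproxOver A.π
  have hpt : cn.pt.hom = eiso.hom.left ≫ A.π := (Over.w eiso.hom).symm
  haveI : IsAffineHom cn.pt.hom := by
    rw [hpt]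
    infer_instance
  obtain ⟨i₀, hi₀⟩ := exists_isAffineHom_stage D cn hcn haff (fun i => (hprops i).2.1)
    (fun i => (hprops i).2.2)
  haveI : ∀ (i j : Iᵒᵖ) (a : i ⟶ j), IsAffineHom ((D ⋙ Over.forget Y).map a) :=
    fun i j a => haff _ _ a
  let γ : X ⟶ ((Over.forget Y).mapCone cn).pt := c ≫ eiso.inv.left
  haveI : IsImmersion γ := by
    haveI : IsOpenImmersion c := hcoi
    change IsImmersion (c ≫ eiso.inv.left)
    infer_instance
  have hγf : γ ≫ cn.pt.hom = f := by
    change (c ≫ eiso.inv.left) ≫ cn.pt.hom = f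
    rw [Category.assoc, Over.w eiso.inv]
    exact e
  have hstage : ∀ k : Iᵒᵖ, (γ ≫ ((Over.forget Y).mapCone cn).π.app k) ≫ (D.obj k).hom = f := by
    intro k
    rw [Category.assoc]
    change γ ≫ (cn.π.app k).left ≫ (D.obj k).hom = f
    have h1 : (cn.π.app k).left ≫ (D.obj k).hom = cn.pt.hom := Over.w (cn.π.app k)
    exact (congrArg (fun t => γ ≫ t) h1).trans hγf
  have hft : LocallyOfFiniteType (γ ≫ ((Over.forget Y).mapCone cn).π.app (op i₀)) := by
    haveI : LocallyOfFiniteType ((γ ≫ ((Over.forget Y).mapCone cn).π.app (op i₀)) ≫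
        (D.obj (op i₀)).hom) := by
      rw [hstage]
      infer_instance
    exact locallyOfFiniteType_of_comp _ (D.obj (op i₀)).hom
  obtain ⟨k, hk⟩ := Lim.exists_isImmersion_comp_π (D ⋙ Over.forget Y)
    ((Over.forget Y).mapCone cn) (isLimitForget D cn hcn) γ (op i₀) hft
  have hle : i₀ ≤ k.left.unop := leOfHom k.hom.unop
  refine ⟨(D.obj k.left).left, (D.obj k.left).hom,
    γ ≫ ((Over.forget Y).mapCone cn).π.app k.left, hi₀ _ hle, (hprops _).1, hk k (𝟙 k),
    hstage k.left⟩

end Groth.Agent.H5.QAff2
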